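import Groth.Agent.H29Node.SubNode
import Groth.Agent.H11Node.Ring

/-!
At a node, two radical ideals with zero intersection add up to the maximal ideal.
-/

set_option autoImplicit false
set_option linter.style.haveILetI false
universe u

open IsLocalRing

namespace Groth.Agent.H06SepNode

open H29Node

variable {K A : Type u} [Field K] [CommRing A] [IsLocalRing A] [IsNoetherianRing A]
  (e : AdicCompletion (maximalIdeal A) A ≃+* H11Node.NodeRing K)

/-- The coordinates in the completion. -/
noncomputable def coord (i : Fin 2) : AdicCompletion (maximalIdeal A) A :=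
  e.symm (Ideal.Quotient.mk _ (MvPowerSeries.X i))

theorem coord_sq_ne_zero (i : Fin 2) : coord e i * coord e i ≠ 0 := by
  intro h
  have h' := congrArg (fun z => H11Node.branch i (e z)) h
  simp only [map_mul, coord, RingEquiv.apply_symm_apply, H11Node.branch_mk, H11Node.axis_X_self, map_zero] at h'
  exact mul_ne_zero PowerSeries.X_ne_zero PowerSeries.X_ne_zero h'

theorem maximalIdeal_le_span {i j : Fin 2} (hcover : ∀ m : Fin 2, m = i ∨ m = j) :
    maximalIdeal (AdicCompletion (maximalIdeal A) A) ≤ Ideal.span {coord e i, coord e j} := fun z hz => by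
  obtain ⟨w, hw⟩ := Ideal.Quotient.mk_surjective (e z)
  let θ : MvPowerSeries (Fin 2) K →+* AdicCompletion (maximalIdeal A) A :=
    e.symm.toRingHom.comp (Ideal.Quotient.mk _)
  have hzw : θ w = z := by show e.symm _ = z; rw [hw, e.symm_apply_apply]
  subst hzw
  have hw0 : w ∈ H02CA.PS.vars (Fin 2) K := H02CA.PS.mem_vars_iff.2 (by
    by_contra h1
    exact hz ((MvPowerSeries.isUnit_iff_constantCoeff.2 (Ne.isUnit h1)).map θ))
  have h2 := Ideal.mem_map_of_mem θ hw0
  rw [Ideal.map_span, ← Set.range_comp] at h2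
  refine Ideal.span_le.2 ?_ h2
  rintro _ ⟨m, rfl⟩
  rcases hcover m with rfl | rfl
  · exact Ideal.subset_span (Or.inl rfl)
  · exact Ideal.subset_span (Or.inr rfl)

/-- A nonzero ideal with reduced positive dimensional quotient contains a coordinate after completion. -/
theorem exists_coord_mem {Q : Type u} [CommRing Q] [IsLocalRing Q] [IsNoetherianRing Q] [_root_.IsReduced Q]
    (ψ : A →+* Q) (hψ : Function.Surjective ψ) (hker : RingHom.ker ψ ≠ ⊥) (hQ : ¬ IsField Q) :
    ∃ i, coord e i ∈ (RingHom.ker ψ).map (algebraMap A (AdicCompletion (maximalIdeal A) A)) := by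
  classical
  let S := AdicCompletion (maximalIdeal A) A
  haveI : Module.Flat A S := AdicCompletion.flat_of_isNoetherian _
  haveI : Module.FaithfullyFlat A S := Module.FaithfullyFlat.of_flat_of_isLocalHom
  set J := RingHom.ker ψ with hJ
  set I := J.map (algebraMap A S) with hI
  obtain ⟨t', htm', htr'⟩ := exists_regular_of_isReduced Q hQ
  obtain ⟨t, rfl⟩ := hψ t'
  have htm : t ∈ maximalIdeal A := fun hu => htm' (hu.map ψ)
  have hcolon : ∀ z : S, z * algebraMap A S t ∈ I → z ∈ I := fun z hz => by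
    have := mem_map_of_flat (B := S) J J (IsNoetherian.noetherian _) ![t] (fun c hc i => by
      fin_cases i
      have h1 : ψ (c 0) * ψ t = 0 := by rw [← map_mul]; simpa [hJ, RingHom.mem_ker] using hc
      exact RingHom.mem_ker.2 (mem_nonZeroDivisors_iff_right.1 htr' _ h1)) ![z] (by simpa using hz)
    exact this 0
  let χ : Fin 2 → (S →+* PowerSeries K) := fun i => (H11Node.branch i).comp e.toRingHom
  let θ : MvPowerSeries (Fin 2) K →+* S := e.symm.toRingHom.comp (Ideal.Quotient.mk _)
  have hχθ : ∀ i f, χ i (θ f) = H11Node.axis i f := fun i f =>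
    (congrArg (H11Node.branch i) (e.apply_symm_apply _)).trans (H11Node.branch_mk i f)
  have hχs : ∀ i, Function.Surjective (χ i) := fun i c => by
    let f : MvPowerSeries (Fin 2) K := fun d => if d = Finsupp.single i (d i) then PowerSeries.coeff (d i) c else 0
    refine ⟨θ f, ?_⟩
    rw [hχθ]
    ext n
    rw [H11Node.coeff_axis]
    show (if Finsupp.single i n = Finsupp.single i (Finsupp.single i n i) then PowerSeries.coeff (Finsupp.single i n i) c else 0) = _
    simp
  have hinj : ∀ a b : S, (∀ m, χ m a = χ m b) → a = b := fun a b h => by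
    rw [← sub_eq_zero]
    refine e.injective ((map_zero e).symm ▸ ?_)
    exact H11Node.branch_injective (K := K)
      ((map_sub (χ 0) a b).trans (sub_eq_zero.2 (h 0))) ((map_sub (χ 1) a b).trans (sub_eq_zero.2 (h 1)))
  have hother : ∀ i : Fin 2, ∃ j : Fin 2, j ≠ i ∧ ∀ m : Fin 2, m = i ∨ m = j := fun i => by
    fin_cases i
    · exact ⟨1, by decide, by decide⟩
    · exact ⟨0, by decide, by decide⟩
  -- a power of a coordinate lies in the extended ideal
  obtain ⟨j₀, hj₀, hj₀0⟩ := Submodule.exists_mem_ne_zero_of_ne_bot hker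
  obtain ⟨i, hi⟩ : ∃ i, χ i (algebraMap A S j₀) ≠ 0 := by
    by_contra hall
    push Not at hall
    refine hj₀0 ((AdicCompletion.of_injective (maximalIdeal A) A) ?_)
    exact (hinj (algebraMap A S j₀) 0 fun m => by rw [hall m, map_zero]).trans (map_zero (algebraMap A S)).symm
  obtain ⟨j, hji, hcover⟩ := hother i
  obtain ⟨a, ha⟩ : ∃ a : ℕ, Associated (χ i (algebraMap A S j₀)) (PowerSeries.X ^ a) :=
    IsDiscreteValuationRing.associated_pow_irreducible hi PowerSeries.X_irreducible
  obtain ⟨c, hc⟩ := ha.dvd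
  obtain ⟨c', rfl⟩ := hχs i c
  have hpow : θ (MvPowerSeries.X i) ^ (a + 1) ∈ I := by
    have h0 : θ (MvPowerSeries.X i) ^ (a + 1) = algebraMap A S j₀ * c' * θ (MvPowerSeries.X i) := hinj _ _ fun m => by
      rcases hcover m with rfl | rfl
      · rw [map_pow, map_mul, map_mul, hχθ, H11Node.axis_X_self, ← hc, pow_succ]
      · rw [map_pow, map_mul, map_mul, hχθ, H11Node.axis_X_of_ne hji.symm, zero_pow (Nat.succ_ne_zero a), mul_zero]
    rw [h0]
    exact Ideal.mul_mem_right _ _ (Ideal.mul_mem_right _ _ (Ideal.mem_map_of_mem _ hj₀))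
  have hgen : maximalIdeal S ≤ Ideal.span {θ (MvPowerSeries.X i), θ (MvPowerSeries.X j)} := fun z hz => by
    obtain ⟨w, hw⟩ := Ideal.Quotient.mk_surjective (e z)
    have hzw : θ w = z := by show e.symm _ = z; rw [hw, e.symm_apply_apply]
    subst hzw
    have hw0 : w ∈ H02CA.PS.vars (Fin 2) K := H02CA.PS.mem_vars_iff.2 (by
      by_contra h1
      exact hz ((MvPowerSeries.isUnit_iff_constantCoeff.2 (Ne.isUnit h1)).map θ))
    have h2 := Ideal.mem_map_of_mem θ hw0
    rw [Ideal.map_span, ← Set.range_comp] at h2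
    refine Ideal.span_le.2 ?_ h2
    rintro _ ⟨m, rfl⟩
    rcases hcover m with rfl | rfl
    · exact Ideal.subset_span (Or.inl rfl)
    · exact Ideal.subset_span (Or.inr rfl)
  have htS : algebraMap A S t ∈ maximalIdeal S := completion_map_maximal.le (Ideal.mem_map_of_mem _ htm)
  obtain ⟨p₁, q₁, hpq⟩ := Ideal.mem_span_pair.1 (hgen htS)
  have hxy : θ (MvPowerSeries.X i) * θ (MvPowerSeries.X j) = 0 := hinj _ _ fun m => by
    rcases hcover m with rfl | rfl
    · rw [map_mul, map_zero, hχθ m (MvPowerSeries.X j), H11Node.axis_X_of_ne hji, mul_zero]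
    · rw [map_mul, map_zero, hχθ m (MvPowerSeries.X i), H11Node.axis_X_of_ne hji.symm, zero_mul]
  have hdesc : ∀ n : ℕ, θ (MvPowerSeries.X i) ^ (n + 1) ∈ I → θ (MvPowerSeries.X i) ∈ I := fun n => by
    induction n with
    | zero => intro h; simpa using h
    | succ n ih =>
      intro h
      refine ih (hcolon _ ?_)
      rw [← hpq, show θ (MvPowerSeries.X i) ^ (n + 1) * (p₁ * θ (MvPowerSeries.X i) + q₁ * θ (MvPowerSeries.X j)) =
        p₁ * θ (MvPowerSeries.X i) ^ (n + 1 + 1) + q₁ * θ (MvPowerSeries.X i) ^ n * (θ (MvPowerSeries.X i) * θ (MvPowerSeries.X j)) by ring,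
        hxy, mul_zero, add_zero]
      exact Ideal.mul_mem_left _ _ h
  have hXi := hdesc a hpow
  exact ⟨i, hXi⟩

theorem sup_eq_maximalIdeal (e : AdicCompletion (maximalIdeal A) A ≃+* H11Node.NodeRing K) (a b : Ideal A)
    (ha : a.IsRadical) (hb : b.IsRadical) (ha0 : a ≠ ⊥) (hb0 : b ≠ ⊥) (ham : a < maximalIdeal A)
    (hbm : b < maximalIdeal A) (hab : a ⊓ b = ⊥) : a ⊔ b = maximalIdeal A := by
  let S := AdicCompletion (maximalIdeal A) A
  haveI : Module.Flat A S := AdicCompletion.flat_of_isNoetherian _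
  haveI : Module.FaithfullyFlat A S := Module.FaithfullyFlat.of_flat_of_isLocalHom
  have key : ∀ c : Ideal A, c.IsRadical → c ≠ ⊥ → c < maximalIdeal A →
      ∃ i, coord e i ∈ c.map (algebraMap A S) := by
    intro c hc hc0 hcm
    haveI : Nontrivial (A ⧸ c) := Ideal.Quotient.nontrivial_iff.mpr
      fun h => (maximalIdeal.isMaximal A).ne_top (top_le_iff.mp (h.symm.le.trans hcm.le))
    haveI := IsLocalRing.of_surjective' (Ideal.Quotient.mk c) Ideal.Quotient.mk_surjective
    haveI : _root_.IsReduced (A ⧸ c) := (Ideal.isRadical_iff_quotient_reduced c).1 hc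
    have hne : ¬ IsField (A ⧸ c) := fun h =>
      hcm.ne ((Ideal.Quotient.maximal_of_isField c h).eq_of_le (maximalIdeal.isMaximal A).ne_top hcm.le)
    obtain ⟨i, hi⟩ := exists_coord_mem e (Ideal.Quotient.mk c) Ideal.Quotient.mk_surjective
      (by rwa [Ideal.mk_ker]) hne
    rw [Ideal.mk_ker] at hi
    exact ⟨i, hi⟩
  obtain ⟨i, hi⟩ := key a ha ha0 ham
  obtain ⟨j, hj⟩ := key b hb hb0 hbm
  have hij : i ≠ j := by
    rintro rfl
    refine coord_sq_ne_zero e i ?_
    have h := Ideal.mul_mem_mul hi hj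
    rw [← Ideal.map_mul, show a * b = ⊥ from le_bot_iff.mp (Ideal.mul_le_inf.trans hab.le), Ideal.map_bot] at h
    exact h
  have hcover : ∀ m : Fin 2, m = i ∨ m = j := by
    intro m; omega
  refine le_antisymm (sup_le ham.le hbm.le) ?_
  rw [← Ideal.comap_map_eq_self_of_faithfullyFlat (A := A) (B := S) (a ⊔ b), ← Ideal.map_le_iff_le_comap,
    completion_map_maximal]
  refine (maximalIdeal_le_span e hcover).trans (Ideal.span_le.2 ?_)
  rintro z (rfl | rfl)
  · exact Ideal.map_mono le_sup_left hi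
  · exact Ideal.map_mono le_sup_right hj

end Groth.Agent.H06SepNode
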