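import Groth.Agent.H06SepNode.Local
import Groth.Agent.H22Alg.FatPoints

/-!
The ideal of a separating node is decomposable.
-/

set_option autoImplicit false
set_option linter.style.haveILetI false
universe u

open IsLocalRing CategoryTheory CategoryTheory.Limits AlgebraicGeometry TopologicalSpace

namespace Groth.Agent.H06SepNode

theorem exists_smul_le {R S : Type u} [CommRing R] [CommRing S] [Algebra R S] (M : Submonoid R)
    [IsLocalization M S] {I J : Ideal R} (hJ : J.FG) (h : J.map (algebraMap R S) ≤ I.map (algebraMap R S)) :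
    ∃ s ∈ M, ∀ x ∈ J, s * x ∈ I := by
  classical
  obtain ⟨T, rfl⟩ := hJ
  have h' : ∀ x ∈ T, ∃ m ∈ M, m * x ∈ I := fun x hx =>
    (IsLocalization.algebraMap_mem_map_algebraMap_iff M S I x).1
      (h (Ideal.mem_map_of_mem _ (Ideal.subset_span hx)))
  choose m hm hmI using h'
  refine ⟨∏ x ∈ T.attach, m x.1 x.2, prod_mem fun x _ => hm x.1 x.2, fun x hx => ?_⟩
  induction hx using Submodule.span_induction with
  | mem x hx =>
    rw [← Finset.mul_prod_erase _ _ (Finset.mem_attach T ⟨x, hx⟩), mul_comm (m x hx), mul_assoc]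
    exact I.mul_mem_left _ (hmI x hx)
  | zero => rw [mul_zero]; exact I.zero_mem
  | add a b _ _ ha hb => rw [mul_add]; exact I.add_mem ha hb
  | smul r a _ ha => rw [smul_eq_mul, mul_left_comm]; exact I.mul_mem_left _ ha

variable {X : Scheme.{u}}

theorem mem_vanishingIdeal_iff (Z : Closeds X) (U : X.affineOpens) (f : Γ(X, U.1)) :
    f ∈ (Scheme.IdealSheafData.vanishingIdeal Z).ideal U ↔
      ∀ q : PrimeSpectrum Γ(X, U.1), U.2.fromSpec q ∈ Z → f ∈ q.asIdeal := by
  rw [Scheme.IdealSheafData.vanishingIdeal_ideal, PrimeSpectrum.mem_vanishingIdeal]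
  rfl

theorem isRadical_vanishingIdeal (Z : Closeds X) (U : X.affineOpens) :
    ((Scheme.IdealSheafData.vanishingIdeal Z).ideal U).IsRadical := by
  rw [Scheme.IdealSheafData.vanishingIdeal_ideal]
  exact PrimeSpectrum.isRadical_vanishingIdeal _

/-- A closed set whose complement accumulates at `P` has nonzero ideal at `P`. -/
theorem stalk_ne_bot [IsLocallyNoetherian X] (Z : Closeds X) (U : X.affineOpens) (q : PrimeSpectrum Γ(X, U.1))
    (hq : U.2.fromSpec q ∈ closure (Z : Set X)ᶜ) {S : Type u} [CommRing S] [Algebra Γ(X, U.1) S]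
    [IsLocalization.AtPrime S q.asIdeal] :
    ((Scheme.IdealSheafData.vanishingIdeal Z).ideal U).map (algebraMap Γ(X, U.1) S) ≠ ⊥ := by
  intro h
  haveI := IsLocallyNoetherian.component_noetherian (X := X) U
  obtain ⟨s, hs, hsI⟩ := exists_smul_le (S := S) q.asIdeal.primeCompl (I := (⊥ : Ideal Γ(X, U.1)))
    (IsNoetherian.noetherian ((Scheme.IdealSheafData.vanishingIdeal Z).ideal U))
    (by rw [h]; exact bot_le)
  obtain ⟨_, ⟨q', hq', rfl⟩, hq'Z⟩ := mem_closure_iff.1 hq _
    (U.2.fromSpec.isOpenEmbedding.isOpenMap _ (PrimeSpectrum.basicOpen s).isOpen) ⟨q, hs, rfl⟩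
  have hcl : ¬ ((Scheme.IdealSheafData.vanishingIdeal Z).ideal U ≤ q'.asIdeal) := by
    intro hle
    apply hq'Z
    have : q' ∈ PrimeSpectrum.zeroLocus (((Scheme.IdealSheafData.vanishingIdeal Z).ideal U : Ideal Γ(X, U.1)) : Set Γ(X, U.1)) := hle
    rw [Scheme.IdealSheafData.vanishingIdeal_ideal, PrimeSpectrum.zeroLocus_vanishingIdeal_eq_closure] at this
    exact (Z.isClosed.preimage U.2.fromSpec.continuous).closure_subset this
  obtain ⟨a, ha, ha'⟩ := SetLike.not_le_iff_exists.1 hcl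
  have h0 : s * a = 0 := Ideal.mem_bot.1 (hsI a ha)
  rcases q'.isPrime.mem_or_mem (show s * a ∈ q'.asIdeal by rw [h0]; exact zero_mem _) with h1 | h1
  · exact hq' h1
  · exact ha' h1

/-- A closed set accumulating at the closed point `P` has an ideal smaller than the maximal one at `P`. -/
theorem stalk_lt [IsLocallyNoetherian X] (Z : Closeds X) (U : X.affineOpens) (q : PrimeSpectrum Γ(X, U.1))
    (hq : q.asIdeal.IsMaximal) (hZ : U.2.fromSpec q ∈ closure ((Z : Set X) \ {U.2.fromSpec q}))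
    {S : Type u} [CommRing S] [IsLocalRing S] [Algebra Γ(X, U.1) S]
    [IsLocalization.AtPrime S q.asIdeal] :
    ((Scheme.IdealSheafData.vanishingIdeal Z).ideal U).map (algebraMap Γ(X, U.1) S) < maximalIdeal S := by
  have hqZ : U.2.fromSpec q ∈ Z := Z.isClosed.closure_subset_iff.2 Set.sdiff_subset hZ
  refine lt_of_le_of_ne ?_ fun h => ?_
  · rw [← IsLocalization.AtPrime.map_eq_maximalIdeal q.asIdeal S]
    exact Ideal.map_mono fun f hf => (mem_vanishingIdeal_iff Z U f).1 hf q hqZ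
  rw [← IsLocalization.AtPrime.map_eq_maximalIdeal q.asIdeal S] at h
  haveI := IsLocallyNoetherian.component_noetherian (X := X) U
  obtain ⟨s, hs, hsI⟩ := exists_smul_le q.asIdeal.primeCompl (IsNoetherian.noetherian q.asIdeal) h.ge
  obtain ⟨_, ⟨q', hq', rfl⟩, hq'Z, hne⟩ := mem_closure_iff.1 hZ _
    (U.2.fromSpec.isOpenEmbedding.isOpenMap _ (PrimeSpectrum.basicOpen s).isOpen) ⟨q, hs, rfl⟩
  have hle : q.asIdeal ≤ q'.asIdeal := fun r hr =>
    (q'.isPrime.mem_or_mem ((mem_vanishingIdeal_iff Z U _).1 (hsI r hr) q' hq'Z)).resolve_left hq'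
  exact hne (congrArg U.2.fromSpec (PrimeSpectrum.ext (hq.eq_of_le q'.isPrime.ne_top hle).symm))

variable [IsReduced X]

theorem vanishingIdeal_inf_eq_bot {Z Z' : Closeds X} (h : Z ⊔ Z' = ⊤) :
    Scheme.IdealSheafData.vanishingIdeal Z ⊓ Scheme.IdealSheafData.vanishingIdeal Z' = ⊥ := by
  rw [← Scheme.IdealSheafData.vanishingIdeal_sup, h, Scheme.IdealSheafData.vanishingIdeal_top,
    Scheme.nilradical_eq_bot]

theorem sup_eq_point [IsLocallyNoetherian X] (P : X) (hP : IsClosed ({P} : Set X)) {K : Type u} [Field K]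
    (e : AdicCompletion (maximalIdeal (X.presheaf.stalk P)) (X.presheaf.stalk P) ≃+* H11Node.NodeRing K)
    (Z Z' : Closeds X) (hcup : Z ⊔ Z' = ⊤) (hcap : (Z : Set X) ∩ Z' = {P})
    (hZ : P ∈ closure ((Z : Set X) \ {P})) (hZ' : P ∈ closure ((Z' : Set X) \ {P})) :
    Scheme.IdealSheafData.vanishingIdeal Z ⊔ Scheme.IdealSheafData.vanishingIdeal Z' =
      Scheme.IdealSheafData.vanishingIdeal ⟨{P}, hP⟩ := by
  have hmemP : P ∈ (Z : Set X) ∩ Z' := by rw [hcap]; rfl
  have hle : Scheme.IdealSheafData.vanishingIdeal Z ⊔ Scheme.IdealSheafData.vanishingIdeal Z' ≤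
      Scheme.IdealSheafData.vanishingIdeal ⟨{P}, hP⟩ :=
    sup_le (Scheme.IdealSheafData.vanishingIdeal_antimono (Set.singleton_subset_iff.2 hmemP.1))
      (Scheme.IdealSheafData.vanishingIdeal_antimono (Set.singleton_subset_iff.2 hmemP.2))
  refine le_antisymm hle fun U x hx => ?_
  rw [Scheme.IdealSheafData.ideal_sup, Pi.sup_apply]
  let a := (Scheme.IdealSheafData.vanishingIdeal Z).ideal U
  let b := (Scheme.IdealSheafData.vanishingIdeal Z').ideal U
  show x ∈ a ⊔ b
  have hmem : ∀ (W : Closeds X) (q : PrimeSpectrum Γ(X, U.1)),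
      (Scheme.IdealSheafData.vanishingIdeal W).ideal U ≤ q.asIdeal → U.2.fromSpec q ∈ W := by
    intro W q hle
    have : q ∈ PrimeSpectrum.zeroLocus (((Scheme.IdealSheafData.vanishingIdeal W).ideal U : Ideal Γ(X, U.1)) : Set Γ(X, U.1)) := hle
    rw [Scheme.IdealSheafData.vanishingIdeal_ideal, PrimeSpectrum.zeroLocus_vanishingIdeal_eq_closure] at this
    exact (W.isClosed.preimage U.2.fromSpec.continuous).closure_subset this
  by_contra hnot
  let T : Ideal Γ(X, U.1) := (a ⊔ b).colon {x}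
  obtain ⟨n, hn, hTn⟩ := Ideal.exists_le_maximal T fun hT => hnot (by
    have : (1 : Γ(X, U.1)) ∈ T := by rw [hT]; trivial
    simpa [T, Submodule.mem_colon] using this)
  let q : PrimeSpectrum Γ(X, U.1) := ⟨n, hn.isPrime⟩
  have habn : a ⊔ b ≤ n := fun r hr => hTn (by
    simp only [T, Submodule.mem_colon_singleton, smul_eq_mul]
    exact Ideal.mul_mem_right _ _ hr)
  have hqP : U.2.fromSpec q = P := by
    have h1 : U.2.fromSpec q ∈ (Z : Set X) ∩ Z' :=
      ⟨hmem Z q (le_sup_left.trans habn), hmem Z' q (le_sup_right.trans habn)⟩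
    rwa [hcap] at h1
  subst hqP
  have hPU : U.2.fromSpec q ∈ U.1 := U.2.range_fromSpec.le ⟨q, rfl⟩
  letI : Algebra Γ(X, U.1) (X.presheaf.stalk (U.2.fromSpec q)) :=
    TopCat.Presheaf.algebra_section_stalk X.presheaf (⟨_, hPU⟩ : U.1)
  haveI : IsLocalization.AtPrime (X.presheaf.stalk (U.2.fromSpec q)) q.asIdeal := U.2.isLocalization_stalk' q hPU
  haveI : IsNoetherianRing (X.presheaf.stalk (U.2.fromSpec q)) := inferInstance
  let S : Type u := X.presheaf.stalk (U.2.fromSpec q)
  let φ := algebraMap Γ(X, U.1) S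
  have hab : a.map φ ⊓ b.map φ = ⊥ := by
    haveI : _root_.IsReduced S := inferInstance
    refine le_bot_iff.1 fun r hr => ?_
    refine Ideal.mem_bot.2 (IsReduced.eq_zero r ⟨2, ?_⟩)
    have h2 : r * r ∈ a.map φ * b.map φ := Ideal.mul_mem_mul hr.1 hr.2
    rw [← Ideal.map_mul] at h2
    have h3 : a * b ≤ ⊥ := Ideal.mul_le_inf.trans (le_of_eq (by
      have h4 := congrArg (fun I : X.IdealSheafData => I.ideal U) (vanishingIdeal_inf_eq_bot hcup)
      simpa only [Scheme.IdealSheafData.ideal_inf, Scheme.IdealSheafData.ideal_bot, Pi.inf_apply, Pi.bot_apply] using h4))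
    rw [le_bot_iff.1 h3, Ideal.map_bot, Ideal.mem_bot] at h2
    rw [pow_two]; exact h2
  have hnb : ∀ W W' : Closeds X, W ⊔ W' = ⊤ → U.2.fromSpec q ∈ closure ((W' : Set X) \ {U.2.fromSpec q}) →
      (W : Set X) ∩ W' = {U.2.fromSpec q} → U.2.fromSpec q ∈ closure (W : Set X)ᶜ := by
    intro W W' _ hc hi
    refine closure_mono (fun y hy hyW => hy.2 ?_) hc
    rw [← hi]
    exact ⟨hyW, hy.1⟩
  have key := sup_eq_maximalIdeal e (a.map φ) (b.map φ)
    (by
      rw [show a = a.radical from (isRadical_vanishingIdeal Z U).radical.symm, IsLocalization.map_radical q.asIdeal.primeCompl S]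
      exact Ideal.radical_isRadical _)
    (by
      rw [show b = b.radical from (isRadical_vanishingIdeal Z' U).radical.symm, IsLocalization.map_radical q.asIdeal.primeCompl S]
      exact Ideal.radical_isRadical _)
    (stalk_ne_bot Z U q (hnb Z Z' hcup hZ' hcap))
    (stalk_ne_bot Z' U q (hnb Z' Z (by rw [sup_comm, hcup]) hZ (by rw [Set.inter_comm, hcap])))
    (stalk_lt Z U q hn hZ) (stalk_lt Z' U q hn hZ') hab
  have hxq : x ∈ q.asIdeal := (mem_vanishingIdeal_iff _ U x).1 hx q rfl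
  have h5 : φ x ∈ (a ⊔ b).map φ := by
    rw [Ideal.map_sup, key, ← IsLocalization.AtPrime.map_eq_maximalIdeal q.asIdeal S]
    exact Ideal.mem_map_of_mem _ hxq
  obtain ⟨m, hm, hmI⟩ := (IsLocalization.algebraMap_mem_map_algebraMap_iff q.asIdeal.primeCompl S _ x).1 h5
  exact hm (hTn (by simpa [T, Submodule.mem_colon_singleton] using hmI))

omit [IsReduced X] in
theorem exists_idempotent_of_decomp {I J M : X.IdealSheafData} (hsup : I ⊔ J = M) (hinf : I ⊓ J = ⊥)
    (hI : I ≠ ⊥) (hJ : J ≠ ⊥) :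
    ∃ e : ClSub.idealMod M ⟶ ClSub.idealMod M, e ≫ e = e ∧ e ≠ 0 ∧ e ≠ 𝟙 _ := by
  subst hsup
  let i := H22Alg.FatPoints.incl (le_sup_left : I ≤ I ⊔ J)
  let j := H22Alg.FatPoints.incl (le_sup_right : J ≤ I ⊔ J)
  let D := biprod.desc i j
  obtain ⟨w, hex⟩ := H28Vert.exact_sup I J
  have hD : D ≫ ClSub.idealModι (I ⊔ J) = biprod.desc (ClSub.idealModι I) (ClSub.idealModι J) := by
    apply biprod.hom_ext' <;> simp [D, i, j, H22Alg.FatPoints.incl_ι]
  haveI : Epi D := by
    have h := hex.epi_kernelLift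
    have : kernel.lift (ClSub.toSubscheme (I ⊔ J)) _ w = D :=
      (cancel_mono (kernel.ι (ClSub.toSubscheme (I ⊔ J)))).1 ((kernel.lift_ι _ _ _).trans hD.symm)
    rw [← this]; exact h
  haveI : Mono D := by
    refine Preadditive.mono_of_cancel_zero _ fun {T} g hg => ?_
    have hsum : (g ≫ biprod.fst) ≫ ClSub.idealModι I + (g ≫ biprod.snd) ≫ ClSub.idealModι J = 0 := by
      rw [Category.assoc, Category.assoc, ← Preadditive.comp_add, ← biprod.desc_eq, ← hD, ← Category.assoc, hg,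
        zero_comp]
    suffices h : (g ≫ biprod.fst) ≫ ClSub.idealModι I = 0 by
      haveI : Mono (ClSub.idealModι I) := inferInstanceAs (Mono (kernel.ι _))
      haveI : Mono (ClSub.idealModι J) := inferInstanceAs (Mono (kernel.ι _))
      rw [h, zero_add] at hsum
      apply biprod.hom_ext
      · rw [zero_comp]; exact zero_of_comp_mono _ h
      · rw [zero_comp]; exact zero_of_comp_mono _ hsum
    refine Scheme.Modules.hom_ext _ _ fun W => ?_
    ext t
    refine H11Tilde.eq_of_locally _ _ fun x hx => ?_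
    obtain ⟨V, hV, hxV, hVW⟩ := exists_isAffineOpen_mem_and_subset hx
    refine ⟨V, hVW, hxV, ?_⟩
    rw [← H11Tilde.app_map_apply, ← H11Tilde.app_map_apply]
    let t' := T.presheaf.map (homOfLE hVW).op t
    let a : Γ(X, V) := OmegaSh.idealSect I V ((g ≫ biprod.fst).app V t')
    let b : Γ(X, V) := OmegaSh.idealSect J V ((g ≫ biprod.snd).app V t')
    have ha : a ∈ I.ideal ⟨V, hV⟩ := (H29Blow.mem_ideal_iff_exists_idealSect I hV a).2 ⟨_, rfl⟩
    have hb : b ∈ J.ideal ⟨V, hV⟩ := (H29Blow.mem_ideal_iff_exists_idealSect J hV b).2 ⟨_, rfl⟩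
    have hab : a + b = 0 := congr($(congrArg (fun f => Scheme.Modules.Hom.app f V) hsum) t')
    have h0 : a ∈ (I ⊓ J).ideal ⟨V, hV⟩ := by
      rw [Scheme.IdealSheafData.ideal_inf]
      exact ⟨ha, by rw [eq_neg_of_add_eq_zero_left hab]; exact neg_mem hb⟩
    rw [hinf, Scheme.IdealSheafData.ideal_bot] at h0
    exact (Ideal.mem_bot.1 h0).trans rfl
  haveI : IsIso D := isIso_of_mono_of_epi D
  have hne : ∀ {A : X.IdealSheafData} (h : A ≤ I ⊔ J), A ≠ ⊥ → H22Alg.FatPoints.incl h ≠ 0 := by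
    intro A h hA h0
    refine hA (Scheme.IdealSheafData.ext (funext fun V => le_bot_iff.1 fun a ha => ?_))
    obtain ⟨m, rfl⟩ := (H29Blow.mem_ideal_iff_exists_idealSect A V.2 a).1 ha
    show OmegaSh.idealSect A V.1 m = 0
    rw [← H22Alg.FatPoints.idealSect_incl h, h0]
    exact map_zero (OmegaSh.idealSect (I ⊔ J) V.1)
  have hi : i ≫ inv D = biprod.inl := by rw [IsIso.comp_inv_eq]; simp [D]
  have hj : j ≫ inv D = biprod.inr := by rw [IsIso.comp_inv_eq]; simp [D]
  refine ⟨inv D ≫ biprod.fst ≫ i, ?_, ?_, ?_⟩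
  · simp only [Category.assoc]; rw [reassoc_of% hi, biprod.inl_fst_assoc]
  · intro h
    refine hne (le_sup_left : I ≤ I ⊔ J) hI ?_
    have := congrArg (fun f => i ≫ f) h
    simp only [comp_zero] at this
    rwa [reassoc_of% hi, biprod.inl_fst_assoc] at this
  · intro h
    refine hne (le_sup_right : J ≤ I ⊔ J) hJ ?_
    have := congrArg (fun f => j ≫ f) h
    simp only [Category.comp_id] at this
    rw [reassoc_of% hj, biprod.inr_fst_assoc, zero_comp] at this
    exact this.symm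

end Groth.Agent.H06SepNode
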